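import Groth.Agent.SteinPtLib.Conn
import Groth.Agent.S1297
import Groth.Agent.HensCouple7.Gamma

/-!
Geometric connectedness of a proper scheme over a field, read on its ring of global functions.
-/

set_option autoImplicit false
set_option linter.style.haveILetI false

universe u

open CategoryTheory CategoryTheory.Limits AlgebraicGeometry

namespace Groth.Agent.SteinPtLib

variable {k : Type u} [Field k] {X : Scheme.{u}} (f : X ⟶ Spec (CommRingCat.of k))

theorem isDominant_toSpecΓ (X : Scheme.{u}) [CompactSpace X] : IsDominant X.toSpecΓ := by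
  refine ⟨PrimeSpectrum.isTopologicalBasis_basic_opens.dense_iff.2 ?_⟩
  rintro _ ⟨r, rfl⟩ hne
  by_contra hcon
  have h0 : X.basicOpen r = ⊥ := by
    rw [← Scheme.toSpecΓ_preimage_basicOpen]
    refine TopologicalSpace.Opens.ext (Set.eq_empty_of_forall_notMem fun x hx => hcon ⟨X.toSpecΓ x, hx, x, rfl⟩)
  have hn : IsNilpotent r := (Scheme.isNilpotent_iff_basicOpen_eq_bot_of_isCompact isCompact_univ r).2 h0
  obtain ⟨q, hq⟩ := hne
  exact hq (nilpotent_iff_mem_prime.1 hn q.asIdeal q.2 |> id)

/-- Geometric connectedness implies that the spectrum of global functions is universally injective. -/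
theorem universallyInjective_of_geometricallyConnected [IsProper f] [GeometricallyConnected f] :
    UniversallyInjective (Spec.map f.appTop) := by
  haveI : IsFinite (Spec.map f.appTop) :=
    (IsFinite.SpecMap_iff _).2 (Groth.Agent.S1297.finite_appTop f)
  let S := Spec (CommRingCat.of k)
  let b : Spec Γ(X, ⊤) ⟶ S := Spec.map f.appTop ≫ inv S.toSpecΓ
  have hab : X.toSpecΓ ≫ b = f := by
    simp only [b]
    rw [← Scheme.toSpecΓ_naturality_assoc f, IsIso.hom_inv_id]
    exact Category.comp_id _
  haveI : IsProper (X.toSpecΓ ≫ b) := by rw [hab]; infer_instance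
  haveI : IsProper X.toSpecΓ := IsProper.of_comp X.toSpecΓ b
  haveI : CompactSpace X := QuasiCompact.compactSpace_of_compactSpace f
  haveI := isDominant_toSpecΓ X
  haveI : Surjective X.toSpecΓ := surjective_of_isDominant_of_isClosed_range _
    X.toSpecΓ.isClosedMap.isClosed_range
  have hb : UniversallyInjective b :=
    universallyInjective_of_subsingleton _ fun K _ x =>
      subsingleton_pullback_of_factor f X.toSpecΓ b hab K x
  exact (MorphismProperty.cancel_right_of_respectsIso @UniversallyInjective _ (inv S.toSpecΓ)).1 hb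

/-- A ring with a single prime has only trivial idempotents. -/
theorem idem_trivial {R : Type u} [CommRing R] [Subsingleton (PrimeSpectrum R)] {e : R} (he : e * e = e) :
    e = 0 ∨ e = 1 := by
  rcases subsingleton_or_nontrivial R with h | h
  · exact .inl (Subsingleton.elim _ _)
  obtain ⟨p⟩ : Nonempty (PrimeSpectrum R) := inferInstance
  by_cases hp : e ∈ p.asIdeal
  · refine .inl (IsIdempotentElem.eq_zero_of_isNilpotent he (nilpotent_iff_mem_prime.2 fun J hJ => ?_))
    rwa [show J = p.asIdeal from congrArg PrimeSpectrum.asIdeal (Subsingleton.elim (⟨J, hJ⟩ : PrimeSpectrum R) p)]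
  · refine .inr ?_
    have h2 : (1 - e) = 0 := by
      refine IsIdempotentElem.eq_zero_of_isNilpotent (IsIdempotentElem.one_sub he)
        (nilpotent_iff_mem_prime.2 fun J hJ => ?_)
      rw [show J = p.asIdeal from congrArg PrimeSpectrum.asIdeal (Subsingleton.elim (⟨J, hJ⟩ : PrimeSpectrum R) p)]
      refine (p.2.mem_or_mem ?_).resolve_left hp
      rw [mul_sub, mul_one, he, sub_self]
      exact zero_mem _
    exact (sub_eq_zero.1 h2).symm

/-- Universal injectivity of the spectrum of global functions implies geometric connectedness. -/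
theorem geometricallyConnected_of_universallyInjective [QuasiCompact f] [QuasiSeparated f] [Nonempty X]
    (h : UniversallyInjective (Spec.map f.appTop)) : GeometricallyConnected f := by
  refine ⟨geometrically_iff_of_isClosedUnderIsomorphisms.mpr fun K _ s => ?_⟩
  haveI : CompactSpace X := QuasiCompact.compactSpace_of_compactSpace f
  haveI : QuasiSeparatedSpace X := quasiSeparatedSpace_of_quasiSeparated f
  let Y := pullback f s
  have H := IsPullback.of_hasPullback f s
  have hP := isPullback_SpecMap_of_isPushout _ _ _ _ (HensCouple7.isPushout_appTop H)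
  haveI : UniversallyInjective (Spec.map (pullback.snd f s).appTop) :=
    MorphismProperty.of_isPullback hP h
  haveI : Subsingleton ↥(Spec Γ(Spec (CommRingCat.of K), ⊤)) :=
    (Spec (CommRingCat.of K)).isoSpec.inv.homeomorph.injective.subsingleton
  haveI : Subsingleton (PrimeSpectrum Γ(Y, ⊤)) :=
    (Spec.map (pullback.snd f s).appTop).injective.subsingleton
  haveI : Surjective s := ⟨fun x => ⟨Classical.arbitrary _, Subsingleton.elim _ _⟩⟩
  obtain ⟨x₀⟩ := ‹Nonempty X›
  obtain ⟨y₀, -⟩ := (pullback.fst f s).surjective x₀
  haveI : Nonempty ↥Y := ⟨y₀⟩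
  haveI : PreconnectedSpace ↥Y := by
    refine preconnectedSpace_iff_clopen.2 fun U hU => ?_
    obtain ⟨e, he, heU⟩ := HensCouple7.exists_idempotent_of_isClopen hU
    rcases idem_trivial he with rfl | rfl
    · exact .inl (by rw [← heU, Scheme.basicOpen_zero]; rfl)
    · exact .inr (by rw [← heU, Scheme.basicOpen_of_isUnit _ isUnit_one]; rfl)
  exact ⟨inferInstance⟩

end Groth.Agent.SteinPtLib
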