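import Mathlib

/-!
The Stein factor of a morphism with geometrically connected fibres has one-point geometric fibres.
-/

set_option autoImplicit false
set_option linter.style.haveILetI false

universe u

open CategoryTheory CategoryTheory.Limits AlgebraicGeometry

namespace Groth.Agent.SteinPtLib

/-- A connected zero-dimensional prime spectrum is a point. -/
theorem subsingleton_of_krullDimLE_zero (R : Type u) [CommRing R] [Ring.KrullDimLE 0 R]
    [PreconnectedSpace (PrimeSpectrum R)] : Subsingleton (PrimeSpectrum R) := by
  have h : ∀ a : R, IsClopen (PrimeSpectrum.basicOpen a : Set (PrimeSpectrum R)) := fun a => by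
    refine ⟨?_, (PrimeSpectrum.basicOpen a).isOpen⟩
    rw [← PrimeSpectrum.localization_away_comap_range (Localization.Away a) a]
    refine PrimeSpectrum.isClosed_range_of_stableUnderSpecialization _ fun p q hpq hp => ?_
    have h1 : p.asIdeal ≤ q.asIdeal := (PrimeSpectrum.le_iff_specializes p q).2 hpq
    have h2 : p = q := PrimeSpectrum.ext
      ((Ideal.isMaximal_of_isPrime p.asIdeal).eq_of_le q.2.ne_top h1)
    exact h2 ▸ hp
  refine ⟨fun p q => PrimeSpectrum.ext (Ideal.ext fun a => ?_)⟩
  rcases isClopen_iff.1 (h a) with e | e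
  · have hp : p ∉ (PrimeSpectrum.basicOpen a : Set (PrimeSpectrum R)) := by rw [e]; exact id
    have hq : q ∉ (PrimeSpectrum.basicOpen a : Set (PrimeSpectrum R)) := by rw [e]; exact id
    simp only [SetLike.mem_coe, PrimeSpectrum.mem_basicOpen, not_not] at hp hq
    exact iff_of_true hp hq
  · have hp : p ∈ (PrimeSpectrum.basicOpen a : Set (PrimeSpectrum R)) := by rw [e]; trivial
    have hq : q ∈ (PrimeSpectrum.basicOpen a : Set (PrimeSpectrum R)) := by rw [e]; trivial
    simp only [SetLike.mem_coe, PrimeSpectrum.mem_basicOpen] at hp hq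
    exact iff_of_false hp hq

/-- A connected scheme integral over a field is a point. -/
theorem subsingleton_of_isIntegralHom {P : Scheme.{u}} {K : Type u} [Field K]
    (π : P ⟶ Spec (CommRingCat.of K)) [IsIntegralHom π] [PreconnectedSpace P] : Subsingleton P := by
  haveI : IsAffine P := isAffine_of_isAffineHom π
  haveI : Ring.KrullDimLE 0 Γ(P, ⊤) := by
    refine Ring.KrullDimLE.mk₀ fun I hI => ?_
    let φ : K →+* Γ(P, ⊤) := π.appTop.hom.comp (Scheme.ΓSpecIso (CommRingCat.of K)).inv.hom
    have hφ : φ.IsIntegral := by
      refine RingHom.IsIntegral.trans _ _ (RingHom.isIntegral_of_surjective _ ?_)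
        (IsIntegralHom.isIntegral_app π ⊤ (isAffineOpen_top _))
      exact (Scheme.ΓSpecIso (CommRingCat.of K)).commRingCatIsoToRingEquiv.symm.surjective
    letI := φ.toAlgebra
    haveI : Algebra.IsIntegral K Γ(P, ⊤) := ⟨hφ⟩
    haveI := hI
    refine Ideal.isMaximal_of_isIntegral_of_isMaximal_comap (R := K) I ?_
    haveI : (I.comap (algebraMap K Γ(P, ⊤))).IsPrime := inferInstance
    rw [((Ideal.eq_bot_or_top _).resolve_right Ideal.IsPrime.ne_top' :
      I.comap (algebraMap K Γ(P, ⊤)) = ⊥)]
    exact Ideal.bot_isMaximal
  haveI : PreconnectedSpace (PrimeSpectrum Γ(P, ⊤)) :=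
    P.isoSpec.hom.homeomorph.surjective.denseRange.preconnectedSpace P.isoSpec.hom.homeomorph.continuous
  haveI := subsingleton_of_krullDimLE_zero Γ(P, ⊤)
  haveI : Subsingleton ↥(Spec Γ(P, ⊤)) := inferInstanceAs (Subsingleton (PrimeSpectrum Γ(P, ⊤)))
  exact P.isoSpec.hom.homeomorph.injective.subsingleton

/-- A morphism whose pullbacks to all field points are points is universally injective. -/
theorem universallyInjective_of_subsingleton {X Y : Scheme.{u}} (f : X ⟶ Y)
    (h : ∀ (K : Type u) [Field K] (x : Spec (CommRingCat.of K) ⟶ Y), Subsingleton ↥(pullback f x)) :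
    UniversallyInjective f := by
  refine ⟨fun {X' Y'} i₁ i₂ f' hsq p₁ p₂ hp => ?_⟩
  obtain ⟨z₁, hz₁⟩ : p₁ ∈ Set.range (f'.fiberι (f' p₁)) := by rw [f'.range_fiberι]; rfl
  obtain ⟨z₂, hz₂⟩ : p₂ ∈ Set.range (f'.fiberι (f' p₁)) := by rw [f'.range_fiberι]; exact hp.symm
  have hfib : IsPullback (f'.fiberι (f' p₁)) (f'.fiberToSpecResidueField (f' p₁)) f'
      (Y'.fromSpecResidueField (f' p₁)) := .of_hasPullback _ _
  have hF := hfib.paste_horiz hsq.flip
  haveI : Subsingleton ↥(pullback f (Y'.fromSpecResidueField (f' p₁) ≫ i₂)) :=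
    h (Y'.residueField (f' p₁)) (Y'.fromSpecResidueField (f' p₁) ≫ i₂)
  haveI : Subsingleton ↥(f'.fiber (f' p₁)) :=
    hF.isoPullback.hom.homeomorph.injective.subsingleton
  rw [← hz₁, ← hz₂, Subsingleton.elim z₁ z₂]

/-- An integral factor of a morphism with geometrically connected fibres has one-point geometric fibres. -/
theorem subsingleton_pullback_of_factor {X T S : Scheme.{u}} (f : X ⟶ S) [GeometricallyConnected f]
    (a : X ⟶ T) [Surjective a] (b : T ⟶ S) [IsIntegralHom b] (hab : a ≫ b = f)
    (K : Type u) [Field K] (x : Spec (CommRingCat.of K) ⟶ S) : Subsingleton ↥(pullback b x) := by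
  let m : pullback f x ⟶ pullback b x :=
    pullback.lift (pullback.fst f x ≫ a) (pullback.snd f x)
      (by rw [Category.assoc, hab, pullback.condition])
  have hm : IsPullback m (pullback.fst f x) (pullback.fst b x) a := by
    refine IsPullback.of_right ?_ (pullback.lift_fst _ _ _) (IsPullback.of_hasPullback b x).flip
    rw [pullback.lift_snd, hab]
    exact (IsPullback.of_hasPullback f x).flip
  haveI : Surjective m := MorphismProperty.of_isPullback hm.flip inferInstance
  haveI : ConnectedSpace ↥(pullback f x) :=
    GeometricallyConnected.geometrically_connectedSpace (f := f) _ _ _ (.of_hasPullback _ _)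
  haveI : PreconnectedSpace ↥(pullback b x) :=
    m.surjective.denseRange.preconnectedSpace m.continuous
  exact subsingleton_of_isIntegralHom (pullback.snd b x)

/-- The Stein factor of a proper morphism with geometrically connected fibres. -/
theorem subsingleton_pullback_fromNormalization {X S : Scheme.{u}} (f : X ⟶ S) [IsProper f]
    [GeometricallyConnected f] (K : Type u) [Field K] (x : Spec (CommRingCat.of K) ⟶ S) :
    Subsingleton ↥(pullback f.fromNormalization x) := by
  haveI : IsProper (f.toNormalization ≫ f.fromNormalization) := by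
    rw [Scheme.Hom.toNormalization_fromNormalization]; infer_instance
  haveI : IsProper f.toNormalization := IsProper.of_comp f.toNormalization f.fromNormalization
  haveI : Surjective f.toNormalization := surjective_of_isDominant_of_isClosed_range _
    f.toNormalization.isClosedMap.isClosed_range
  exact subsingleton_pullback_of_factor f f.toNormalization f.fromNormalization
    (Scheme.Hom.toNormalization_fromNormalization f) K x

end Groth.Agent.SteinPtLib
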